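import Cfsg.Agent.QdSolv76.Main
import Cfsg.Agent.LocalEven61.Involves
import Cfsg.Agent.GoldGroups11.Basic
import Cfsg.Agent.S2761

/-!
Systems all of whose automorphism groups have no section `S₃` are `S₄`-free, hence constrained as
soon as `S₄`-free systems have a nontrivial normal subgroup.
-/

set_option autoImplicit false
set_option linter.style.haveILetI false

namespace Cfsg.Agent.S90.W.Constr

open Equiv
open Cfsg.FusionSystem (normalizerIn centralizerIn)

universe u

set_option maxRecDepth 8000 in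
theorem map_normal_two_group_perm3 {K : Type*} [Group K] (f : K →* Perm (Fin 3))
    (hf : Function.Surjective f) (A : Subgroup K) [hA : A.Normal] (h2 : IsPGroup 2 A) :
    A ≤ f.ker := by
  intro a ha
  have key : ∀ x ∈ A, f x ^ 3 = 1 → f x = 1 := by
    intro x hx h3
    obtain ⟨k, hk⟩ := h2 ⟨x, hx⟩
    have h : f x ^ (2 ^ k) = 1 := by
      rw [← map_pow, show x ^ (2 ^ k) = (1 : K) from congrArg Subtype.val hk, map_one]
    have hd := orderOf_dvd_of_pow_eq_one h
    have hd3 := orderOf_dvd_of_pow_eq_one h3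
    exact orderOf_eq_one_iff.1 (Nat.eq_one_of_dvd_coprimes
      (Nat.Coprime.pow_left k (by norm_num : Nat.Coprime 2 3)) hd hd3)
  have hdec : ∀ t : Perm (Fin 3), t ^ 3 ≠ 1 →
      ∃ g : Perm (Fin 3), (t * (g * t * g⁻¹)) ^ 3 = 1 ∧ t * (g * t * g⁻¹) ≠ 1 := by decide
  rw [MonoidHom.mem_ker]
  by_cases h : f a ^ 3 = 1
  · exact key a ha h
  · obtain ⟨g, hg, hne⟩ := hdec _ h
    obtain ⟨k, rfl⟩ := hf g
    rw [← map_inv, ← map_mul, ← map_mul, ← map_mul] at hg hne
    exact absurd (key _ (A.mul_mem ha (hA.conj_mem a ha k)) hg) hne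

theorem isSectionFree_qd_two {Ω : Type u} [Group Ω] {S : Subgroup Ω} (F : Cfsg.FusionSystem S)
    (h3 : ∀ U : Subgroup Ω, U ≤ S → ¬ Cfsg.Involves (Perm (Fin 3)) ↥(F.autGroup U)) :
    F.IsSectionFree 2 ↥(Cfsg.qd 2) := by
  intro Q _ _ N hN L _ ι hM hinv
  haveI : Fact (Nat.Prime 2) := ⟨Nat.prime_two⟩
  obtain ⟨hfin, ⟨hinj, hreal⟩, ⟨T, hT⟩, hcore⟩ := hM
  obtain ⟨e4⟩ := Cfsg.Agent.S2761.result
  have h3L : Cfsg.Involves (Perm (Fin 3)) L :=
    Cfsg.Agent.GoldGroups11.involves_perm4_to_perm3 (LocalEven61.involves_congr e4 hinv)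
  obtain ⟨K, f, hf⟩ := LocalEven61.exists_surjective_of_involves h3L
  set O := Cfsg.pCore 2 L with hO
  have hOp : IsPGroup 2 O := Cfsg.Agent.Thompson.isPGroup_pCore
  haveI : O.Normal := Cfsg.Agent.Thompson.instPCoreNormal
  have hOle : O ≤ ι.range := by
    rw [← hT]
    exact IsPGroup.le_sylow_of_normal hOp T
  let U : Subgroup Ω := (O.comap ι).map (normalizerIn S Q).subtype
  have hUN : U ≤ normalizerIn S Q := Subgroup.map_subtype_le _
  let e0 : ↥(O.comap ι) ≃* ↥O := MulEquiv.ofBijective (ι.subgroupComap O)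
    ⟨fun a b h => Subtype.ext (hinj (congrArg Subtype.val h)), fun y => by
      obtain ⟨x, hx⟩ := hOle y.2
      exact ⟨⟨x, show ι x ∈ O from hx ▸ y.2⟩, Subtype.ext hx⟩⟩
  let e : ↥U ≃* ↥O :=
    ((O.comap ι).equivMapOfInjective _ (normalizerIn S Q).subtype_injective).symm.trans e0
  have he : ∀ x : U, ι ⟨x, hUN x.2⟩ = (e x : L) := by
    intro x
    obtain ⟨y, rfl⟩ :=
      ((O.comap ι).equivMapOfInjective _ (normalizerIn S Q).subtype_injective).surjective x
    simp only [e, MulEquiv.trans_apply, MulEquiv.symm_apply_apply]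
    rfl
  let c : L →* MulAut O := MulAut.conjNormal
  let m : L →* MulAut U := (MulAut.congr e.symm).toMonoidHom.comp c
  have hm : ∀ g, m g ∈ F.autGroup U := by
    intro g
    refine Subgroup.subset_closure ?_
    let φ : ↥U →* Ω := U.subtype.comp (m g).toMonoidHom
    have hφS : ∀ x, φ x ∈ normalizerIn S Q := fun x => hUN (m g x).2
    have hφ : φ ∈ N.Hom U := by
      refine (hreal U hUN φ hφS).2 ⟨g, fun x => ?_⟩
      show ι ⟨(m g x : U), hUN (m g x).2⟩ = _
      rw [he, he, show e (m g x) = c g (e x) from e.apply_symm_apply _, MulAut.conjNormal_apply]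
    rw [hN] at hφ
    exact hφ.1
  have hker : c.ker ≤ O := fun k hk => hcore (Subgroup.mem_centralizer_iff.2 fun o ho => by
    have h := congrArg Subtype.val (DFunLike.congr_fun (MonoidHom.mem_ker.1 hk) ⟨o, ho⟩)
    rw [MulAut.conjNormal_apply] at h
    exact (mul_inv_eq_iff_eq_mul.1 h).symm)
  let d : ↥K →* ↥(F.autGroup U) := (m.codRestrict (F.autGroup U) hm).comp K.subtype
  have hd : d.ker ≤ f.ker := by
    have h2 : IsPGroup 2 d.ker := by
      intro x
      have hx1 : m ((x : K) : L) = 1 := congrArg Subtype.val (MonoidHom.mem_ker.1 x.2)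
      have hc : ((x : K) : L) ∈ c.ker :=
        MonoidHom.mem_ker.2 ((MulAut.congr e.symm).injective (hx1.trans (map_one _).symm))
      obtain ⟨k, hk⟩ := hOp ⟨_, hker hc⟩
      refine ⟨k, Subtype.ext (Subtype.ext ?_)⟩
      simpa using congrArg Subtype.val hk
    exact map_normal_two_group_perm3 f hf d.ker h2
  refine h3 U (hUN.trans inf_le_left) (LocalEven61.involves_of_hom (QuotientGroup.lift d.ker f hd) ?_
    (QuotientGroup.kerLift d) (QuotientGroup.kerLift_injective d))
  intro y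
  obtain ⟨x, rfl⟩ := hf y
  exact ⟨QuotientGroup.mk x, rfl⟩

/-- The theorem, given that `S₄`-free systems have a nontrivial normal subgroup. -/
theorem isConstrained_of_s3Free (hH : QdSolv76.CoreHyp.{u} 2) {Ω : Type u} [Group Ω]
    {S : Subgroup Ω} [Finite S] (hS : IsPGroup 2 S) (F : Cfsg.FusionSystem S) (hF : F.IsSaturated 2)
    (h3 : ∀ U : Subgroup Ω, U ≤ S → ¬ Cfsg.Involves (Perm (Fin 3)) ↥(F.autGroup U)) :
    F.IsConstrained 2 :=
  QdSolv76.isConstrained hH hS hF (isSectionFree_qd_two F h3)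

end Cfsg.Agent.S90.W.Constr
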