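import Cfsg.Agent.S90.W.Core
import Cfsg.Agent.S2761
import Cfsg.Agent.S0664
import Cfsg.Agent.Fusion92.SectionFree
import Cfsg.Agent.Fusion92.LocalQuotient
import Cfsg.Agent.Fusion91.Core
import Cfsg.Agent.LocalEven61.ZJFunctor
import Cfsg.Agent.QdSolv76.Main

/-!
A functor with the local property makes a section-free system the normalizer of its value at `S`;
the functor `wk` for `S₄` and `Z(J)` for `Qd(p)`, `p` odd.
-/

set_option autoImplicit false

namespace Cfsg.Agent.S90.W.Consumer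

open Cfsg Cfsg.Agent.Fusion92 Cfsg.Agent.Fusion
open Cfsg.FusionSystem (normalizerIn)
open Subgroup Equiv
open Cfsg.Agent.S4Free (im zc IsSyl)

universe u

/-- If `W` is normal in every `H`-free group of characteristic `p`, then `W(S)` is normal in every
`H`-free saturated system over `S`. -/
theorem isNormal_of_functor {p : ℕ} [Fact p.Prime] {H : Type*} [Group H]
    (W : ∀ (Q : Type u) [Group Q], Subgroup Q)
    (hW1 : ∀ (Q : Type u) [Group Q] [Finite Q], IsPGroup p Q → Nontrivial Q → W Q ≠ ⊥)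
    (hinv : IsInvariantW p W)
    (hW3 : ∀ (L : Type u) [Group L] [Finite L] (P : Sylow p L),
      Subgroup.centralizer ((Cfsg.pCore p L : Subgroup L) : Set L) ≤ Cfsg.pCore p L →
      ¬ Cfsg.Involves H L → ((W ↥(P : Subgroup L)).map (P : Subgroup L).subtype).Normal)
    {Ω : Type u} [Group Ω] {S : Subgroup Ω} [Finite S] (hS : IsPGroup p S)
    (F : Cfsg.FusionSystem S) (hF : F.IsSaturated p) (hfree : F.IsSectionFree p H) :
    F.IsNormal ((W ↥S).map S.subtype) := by
  set V := (W ↥S).map S.subtype with hV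
  have hVS : V ≤ S := Subgroup.map_subtype_le _
  have hVn : S ≤ Subgroup.normalizer (V : Set Ω) := le_normalizer_map_W hinv hS
  have hNS : normalizerIn S V = S := inf_eq_left.mpr hVn
  haveI : Finite (normalizerIn S V) := Fusion.finite_of_le (Fusion.normalizerIn_le S V)
  have hN := isNormalizerSystem_normalizerSystem (F := F) V hVS
  have hd : ControlData (S := normalizerIn S V) p (normalizerSystem F V hVS) W fun T D =>
      T ≤ S ∧ D.IsSaturated p ∧ D.IsSectionFree p H := by
    have loc : ∀ {T : Subgroup Ω} {D : Cfsg.FusionSystem T}, T ≤ S →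
        D.IsSectionFree p H → ∀ (Q₀ U : Subgroup Ω) (L : Type u) [Group L]
        (ι : ↥(normalizerIn T U) →* L), LocalCond p D Q₀ ι → ∀ g : L,
        g ∈ Subgroup.normalizer ((secW W ι.range
          ((Q₀.subgroupOf (normalizerIn T U)).map ι) : Subgroup L) : Set L) := by
      intro T D hT hDf Q₀ U L _ ι h g
      haveI : Finite T := Fusion.finite_of_le hT
      have := h.isLocal.fin
      haveI := h.normal
      have hTp := hS.to_le hT
      obtain ⟨P, hP, hPY⟩ := h.exists_sylow (W := W) hinv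
      have hn := hW3 _ P (h.centralizer_le hTp)
        fun hi => not_involves_of_isSectionFree hTp hDf h.fullyNormalized h.centric h.isLocal
          (LocalEven61.involves_of_quotient _ hi)
      rw [← hPY] at hn
      refine (h.mem_normalizer_secW_iff).mp ?_
      rw [Subgroup.normalizer_eq_top_iff.mpr hn]
      trivial
    exact
    { nontriv := hW1
      invariant := hinv
      le := fun h => hNS.symm ▸ h.1
      saturated := fun h => h.2.1
      normalizer := fun h V' hV' => by
        haveI := Fusion.finite_of_le h.1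
        exact ⟨(Fusion.normalizerIn_le _ V').trans h.1,
          normalizerSystem_isSaturated (hS.to_le h.1) h.2.1 hV',
          isSectionFree_normalizer (hS.to_le h.1) h.2.1 h.2.2 hV'⟩
      centralType := fun h Q hQ hn => by
        haveI := Fusion.finite_of_le h.1
        exact ⟨h.1, centralType_isSaturated (hS.to_le h.1) h.2.1 hQ,
          isSectionFree_centralType (hS.to_le h.1) h.2.1 h.2.2 hQ hn⟩
      loc := fun {T D} h Q₀ U L _ ι hl hant g f hf hfU he =>
        hant g (loc h.1 h.2.2 Q₀ U L ι hl g) U hl.isLocal.shape.le le_rfl f hf hfU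
          fun x hx hfx => he x _ hx hfx
      constrained := fun {T D} h Q₀ U L _ ι hl _ hant _ g =>
        hant g (loc h.1 h.2.2 Q₀ U L ι hl g) }
  have hall := hd.control (hS.to_le (Fusion.normalizerIn_le S V)) F ⊥ ⟨le_rfl, hF, hfree⟩
    (Fusion91.isNormal_bot F) ?_ fun P f hf hext => ?_
  · refine Fusion.isNormal_iff.mpr ⟨hVS, fun P f hf => ?_⟩
    obtain ⟨-, -, -, g, hg, he, hgV⟩ := (IsNormalizerSystem.isMap_iff hN).mp (hall P f hf)
    exact ⟨g, hg, fun x hx => he hx, hgV⟩
  · haveI : Subsingleton (MulAut (⊥ : Subgroup Ω)) :=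
      ⟨fun a b => MulEquiv.ext fun x => Subsingleton.elim _ _⟩
    exact fun a => ⟨0, Subsingleton.elim _ _⟩
  · rw [show secW W S ⊥ = V from secW_bot hinv S hS] at hext
    exact (IsNormalizerSystem.isMap_iff hN).mpr
      ⟨hf, hNS.symm ▸ hf.dom_le, fun x hx => hNS.symm ▸ hf.apply_mem hx, hext⟩

/-- The value of an invariant functor is characteristic. -/
theorem map_W_characteristic {p : ℕ} {W : ∀ (Q : Type u) [Group Q], Subgroup Q}
    (hinv : IsInvariantW p W) {Ω : Type u} [Group Ω] {S : Subgroup Ω} [Finite S]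
    (hS : IsPGroup p S) : (((W ↥S).map S.subtype).subgroupOf S).Characteristic := by
  rw [Subgroup.subgroupOf, Subgroup.comap_map_eq_self_of_injective S.subtype_injective]
  exact Subgroup.characteristic_iff_map_eq.mpr fun φ => hinv ↥S ↥S hS φ

/-- The functor `wk`. -/
def wkFun (Q : Type u) [Group Q] : Subgroup Q := wk (⊤ : Subgroup Q)

/-- What is used of the theory of `wk`. -/
structure WkFacts : Prop where
  im_wk : ∀ {G Q : Type u} [Group G] [Finite G] [Group Q] [Finite Q] {K S : Subgroup G}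
    (f : ↥K →* Q), Function.Injective f → S ≤ K → im f (wk S) = wk (im f S)
  zc_le_wk : ∀ {G : Type u} [Group G] [Finite G] {S : Subgroup G}, zc S ≤ wk S
  wk_normal : ∀ {G : Type u} [Group G] [Finite G] {H S : Subgroup G}, Good H → IsSyl S H →
    H ≤ normalizer (wk S : Set G)

theorem wk_le {G : Type u} [Group G] (S : Subgroup G) : wk S ≤ S :=
  sSup_le fun _ h => h.le

theorem im_top_comp {G Q : Type u} [Group G] [Group Q] (φ : G →* Q) (X : Subgroup G) :
    im (φ.comp (⊤ : Subgroup G).subtype) X = X.map φ := by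
  ext q
  rw [S4Free.mem_im]
  exact ⟨fun ⟨x, _, hX, e⟩ => ⟨x, hX, e⟩, fun ⟨x, hX, e⟩ => ⟨x, mem_top x, hX, e⟩⟩

theorem isInvariantW_wkFun (h : WkFacts.{u}) : IsInvariantW 2 wkFun.{u} := by
  intro Q R _ _ _ _ φ
  haveI : Finite R := Finite.of_equiv Q φ.toEquiv
  have h1 := h.im_wk (K := (⊤ : Subgroup Q)) (S := ⊤) (φ.toMonoidHom.comp (⊤ : Subgroup Q).subtype)
    (φ.injective.comp Subtype.val_injective) le_rfl
  rw [im_top_comp, im_top_comp, Subgroup.map_top_of_surjective _ φ.surjective] at h1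
  exact h1

theorem wkFun_ne_bot (h : WkFacts.{u}) {Q : Type u} [Group Q] [Finite Q] (hQ : IsPGroup 2 Q)
    (hnt : Nontrivial Q) : wkFun Q ≠ ⊥ := by
  intro e
  refine S4Free.zc_ne_bot (G := Q) (S := ⊤) (hQ.to_subgroup ⊤) ?_ (le_bot_iff.mp (e ▸ h.zc_le_wk))
  intro e'
  exact not_subsingleton Q (Subgroup.subsingleton_iff.mp (subsingleton_of_bot_eq_top e'.symm))

theorem map_wkFun (h : WkFacts.{u}) {L : Type u} [Group L] [Finite L] (P : Subgroup L) :
    (wkFun ↥P).map P.subtype = wk P := by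
  have h1 := h.im_wk (K := P) (S := P) (MonoidHom.id ↥P) Function.injective_id le_rfl
  have h2 : ∀ X : Subgroup L, im (MonoidHom.id ↥P) X = X.subgroupOf P := fun X =>
    Subgroup.map_id _
  rw [h2, h2, Subgroup.subgroupOf_self] at h1
  rw [wkFun, ← h1, Subgroup.map_subgroupOf_eq_of_le (wk_le P)]

theorem wkFun_local (h : WkFacts.{u}) (L : Type u) [Group L] [Finite L] (P : Sylow 2 L)
    (hc : Subgroup.centralizer ((Cfsg.pCore 2 L : Subgroup L) : Set L) ≤ Cfsg.pCore 2 L)
    (hfree : ¬ Cfsg.Involves (Perm (Fin 4)) L) :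
    ((wkFun ↥(P : Subgroup L)).map (P : Subgroup L).subtype).Normal := by
  rw [map_wkFun h]
  have hgood : Good (⊤ : Subgroup L) := by
    refine ⟨?_, fun hi => hfree (LocalEven61.involves_of_subgroup ⊤ hi)⟩
    have e : (Cfsg.pCore 2 L).subgroupOf (⊤ : Subgroup L) ≤ Cfsg.pCore 2 ↥(⊤ : Subgroup L) :=
      fun z hz => Thompson.le_pCore inferInstance (Thompson.isPGroup_pCore.comap_subtype) hz
    intro x hx
    refine e (Subgroup.mem_subgroupOf.mpr (hc (Subgroup.mem_centralizer_iff.mpr fun y hy => ?_)))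
    exact congrArg Subtype.val (Subgroup.mem_centralizer_iff.mp hx ⟨y, mem_top y⟩
      (e (Subgroup.mem_subgroupOf.mpr hy)))
  have := h.wk_normal hgood (S := (P : Subgroup L))
    ⟨le_top, P.2, fun R _ hR hle => P.3 hR hle⟩
  exact Subgroup.normalizer_eq_top_iff.mp (top_le_iff.mp this)

/-- `wk S` is normal in every `S₄`-free saturated 2-system. -/
theorem isNormal_wk (h : WkFacts.{u}) {Ω : Type u} [Group Ω] {S : Subgroup Ω} [Finite S]
    (hS : IsPGroup 2 S) (F : Cfsg.FusionSystem S) (hF : F.IsSaturated 2)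
    (hfree : F.IsSectionFree 2 (Perm (Fin 4))) : F.IsNormal ((wkFun ↥S).map S.subtype) :=
  isNormal_of_functor wkFun (fun _ _ _ => wkFun_ne_bot h) (isInvariantW_wkFun h) (wkFun_local h)
    hS F hF hfree

theorem map_subtype_ne_bot {Ω : Type u} [Group Ω] {S : Subgroup Ω} {X : Subgroup ↥S} (hX : X ≠ ⊥) :
    X.map S.subtype ≠ ⊥ := fun e =>
  hX ((Subgroup.map_eq_bot_iff_of_injective _ S.subtype_injective).mp e)

/-- The statement of S5237. -/
theorem exists_characteristic_normal (h : WkFacts.{u}) {Ω : Type u} [Group Ω] {S : Subgroup Ω}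
    [Finite S] (hS : IsPGroup 2 S) (hS1 : S ≠ ⊥) :
    ∃ W : Subgroup Ω, W ≤ S ∧ W ≠ ⊥ ∧ (W.subgroupOf S).Characteristic ∧
      ∀ F : Cfsg.FusionSystem S, F.IsSaturated 2 → F.IsSectionFree 2 (Perm (Fin 4)) →
        F.IsNormal W :=
  ⟨(wkFun ↥S).map S.subtype, Subgroup.map_subtype_le _,
    map_subtype_ne_bot (wkFun_ne_bot h hS ((Subgroup.nontrivial_iff_ne_bot S).mpr hS1)),
    map_W_characteristic (isInvariantW_wkFun h) hS, fun F hF hfree => isNormal_wk h hS F hF hfree⟩

theorem isSectionFree_perm {Ω : Type u} [Group Ω] {S : Subgroup Ω} {F : Cfsg.FusionSystem S}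
    (hfree : F.IsSectionFree 2 ↥(Cfsg.qd 2)) : F.IsSectionFree 2 (Perm (Fin 4)) := by
  obtain ⟨e⟩ := S2761.result
  intro Q hQ hQc N hN L _ ι hL hi
  exact hfree Q hQ hQc N hN L ι hL (LocalEven61.involves_congr e.symm hi)

/-- The statement of S5190. -/
theorem exists_normal_qdFree (h : WkFacts.{u}) {Ω : Type u} [Group Ω] {S : Subgroup Ω} [Finite S]
    (p : ℕ) [Fact p.Prime] (hS : IsPGroup p S) (hS1 : S ≠ ⊥) (F : Cfsg.FusionSystem S)
    (hF : F.IsSaturated p) (hfree : F.IsSectionFree p ↥(Cfsg.qd p)) :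
    ∃ W : Subgroup Ω, W ≤ S ∧ W ≠ ⊥ ∧ (W.subgroupOf S).Characteristic ∧ F.IsNormal W := by
  by_cases hp : p = 2
  · subst hp
    obtain ⟨W, h1, h2, h3, h4⟩ := exists_characteristic_normal h hS hS1
    exact ⟨W, h1, h2, h3, h4 F hF (isSectionFree_perm hfree)⟩
  · haveI : Nontrivial ↥S := (Subgroup.nontrivial_iff_ne_bot S).mpr hS1
    have hinv : IsInvariantW p (fun Q _ => LocalEven61.zjA.{u} Q) :=
      fun Q R _ _ _ _ φ => LocalEven61.map_zjA φ
    refine ⟨(LocalEven61.zjA ↥S).map S.subtype, Subgroup.map_subtype_le _,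
      map_subtype_ne_bot (LocalEven61.zjA_ne_bot hS), map_W_characteristic hinv hS,
      isNormal_of_functor (fun Q _ => LocalEven61.zjA Q)
        (fun Q _ _ hQ hnt => LocalEven61.zjA_ne_bot hQ) hinv ?_ hS F hF hfree⟩
    intro L _ _ P hc hi
    rw [LocalEven61.map_subtype_zjA]
    exact S0664.result hp hi hc P

/-- `QdSolv76.CoreHyp 2`. -/
theorem coreHyp_two (h : WkFacts.{u}) : QdSolv76.CoreHyp.{u} 2 := by
  intro Ω _ S _ hS hS1 F hF hfree e
  obtain ⟨W, h1, h2, -, h4⟩ := exists_normal_qdFree h 2 hS hS1 F hF hfree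
  exact h2 (le_bot_iff.mp (e ▸ le_sSup h4))

end Cfsg.Agent.S90.W.Consumer
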